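import Groth.Agent.L08.Lambda.Newton
import Groth.Agent.L22.Lambda
import Groth.Prelude.Def_KGr
import Mathlib.RingTheory.MvPolynomial.Ideal
import Mathlib.RingTheory.MvPolynomial.Homogeneous
import Mathlib.RingTheory.MvPolynomial.WeightedHomogeneous
import Mathlib.RingTheory.Nilpotent.Exp
import Mathlib.RingTheory.PowerSeries.Trunc
import Mathlib.RingTheory.Polynomial.Pochhammer
import Mathlib.NumberTheory.Bernoulli

/-!
The universal identity between the Todd polynomial and the top symmetric polynomial.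
-/

set_option autoImplicit false
universe u

noncomputable section

namespace Groth.L15.ToddTop

open Finset Groth.L08.Lambda

section Trunc

variable {B : Type u} [CommRing B] [Algebra ℚ B] {d : ℕ}

theorem aeval_eq_of_coeff {w : B} (hw : w ^ (d + 1) = 0) {p q : Polynomial ℚ}
    (h : ∀ j ≤ d, p.coeff j = q.coeff j) : Polynomial.aeval w p = Polynomial.aeval w q := by
  obtain ⟨c, hc⟩ := Polynomial.X_pow_dvd_iff (f := p - q) (n := d + 1) |>.2 fun j hj => by
    rw [Polynomial.coeff_sub, h j (by omega), sub_self]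
  rw [← sub_eq_zero, ← map_sub, hc, map_mul, map_pow, Polynomial.aeval_X, hw, zero_mul]

/-- The truncated evaluation of a power series. -/
def ev (d : ℕ) (w : B) (p : PowerSeries ℚ) : B := Polynomial.aeval w (PowerSeries.trunc (d + 1) p)

theorem ev_mul {w : B} (hw : w ^ (d + 1) = 0) (p q : PowerSeries ℚ) : ev d w (p * q) = ev d w p * ev d w q := by
  rw [ev, ev, ev, ← map_mul]
  refine aeval_eq_of_coeff hw fun j hj => ?_
  rw [PowerSeries.coeff_trunc, if_pos (by omega), ← Polynomial.coeff_coe, Polynomial.coe_mul,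
    PowerSeries.coeff_mul, PowerSeries.coeff_mul]
  refine Finset.sum_congr rfl fun a ha => ?_
  have := Finset.mem_antidiagonal.1 ha
  rw [Polynomial.coeff_coe, Polynomial.coeff_coe, PowerSeries.coeff_trunc, PowerSeries.coeff_trunc,
    if_pos (by omega), if_pos (by omega)]

theorem ev_X {w : B} (hw : w ^ (d + 1) = 0) : ev d w (PowerSeries.X : PowerSeries ℚ) = w := by
  rcases d with - | d
  · simp only [zero_add, pow_one] at hw
    subst hw
    simp [ev, ← Polynomial.coeff_zero_eq_aeval_zero', PowerSeries.coeff_trunc]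
  · rw [ev, PowerSeries.trunc_X, Polynomial.aeval_X]

theorem ev_one (w : B) : ev d w (1 : PowerSeries ℚ) = 1 := by
  rw [ev, PowerSeries.trunc_one, map_one]

theorem ev_sub (w : B) (p q : PowerSeries ℚ) : ev d w (p - q) = ev d w p - ev d w q := by
  rw [ev, ev, ev, ← map_sub]
  congr 1
  exact map_sub _ p q

theorem ev_exp (w : B) : ev d w (PowerSeries.exp ℚ) = Polynomial.aeval w (KGr.expTrunc d) := by
  rw [ev]
  congr 1
  ext j
  simp [KGr.expTrunc, PowerSeries.coeff_trunc, PowerSeries.coeff_exp, Polynomial.coeff_C_mul_X_pow, Finset.sum_ite_eq]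

theorem ev_todd (w : B) : ev d w (bernoulli'PowerSeries ℚ) = Polynomial.aeval w (KGr.toddTrunc d) := by
  rw [ev]
  congr 1
  ext j
  simp [KGr.toddTrunc, PowerSeries.coeff_trunc, bernoulli'PowerSeries, Polynomial.coeff_C_mul_X_pow, Finset.sum_ite_eq]

theorem todd_mul {w : B} (hw : w ^ (d + 1) = 0) :
    Polynomial.aeval w (KGr.toddTrunc d) * (Polynomial.aeval w (KGr.expTrunc d) - 1) =
      w * Polynomial.aeval w (KGr.expTrunc d) := by
  rw [← ev_todd, ← ev_exp, ← ev_one (d := d) w, ← ev_sub, ← ev_mul hw, bernoulli'PowerSeries_mul_exp_sub_one,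
    ev_mul hw, ev_X hw]

theorem aeval_expTrunc {w : B} (hw : w ^ (d + 1) = 0) :
    Polynomial.aeval w (KGr.expTrunc d) = IsNilpotent.exp w := by
  rw [IsNilpotent.exp_eq_sum hw, KGr.expTrunc, map_sum]
  refine Finset.sum_congr rfl fun k _ => ?_
  rw [map_mul, Polynomial.aeval_C, map_pow, Polynomial.aeval_X, ← Algebra.smul_def, one_div]

theorem coeff_extract {W : Type u} [AddCommGroup W] [Module ℚ W] (N : ℕ → ℕ) (hN : Function.Injective N)
    (Pm Z : ℕ → W) (h : ∀ i, ∑ m ∈ range (d + 1), ((N i : ℚ) ^ m) • Pm m =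
      ∑ r ∈ range (d + 1), (((N i).choose r : ℕ) : ℚ) • Z r) {m : ℕ} (hm : m ≤ d) :
    Pm m = ∑ r ∈ range (d + 1), ((descPochhammer ℚ r).coeff m / r.factorial) • Z r := by
  rw [← sub_eq_zero, ← Module.forall_dual_apply_eq_zero_iff ℚ]
  intro φ
  have key : ∑ m ∈ range (d + 1), Polynomial.C (φ (Pm m)) * Polynomial.X ^ m =
      ∑ r ∈ range (d + 1), Polynomial.C (φ (Z r) / r.factorial) * descPochhammer ℚ r := by
    refine Polynomial.eq_of_infinite_eval_eq _ _ ((Set.infinite_range_of_injective
      (Nat.cast_injective.comp hN : Function.Injective fun i => (N i : ℚ))).mono ?_)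
    rintro _ ⟨i, rfl⟩
    have := congrArg φ (h i)
    simp only [map_sum, map_smul, smul_eq_mul] at this
    simp only [Set.mem_setOf_eq, Polynomial.eval_finsetSum, Polynomial.eval_mul, Polynomial.eval_C,
      Polynomial.eval_pow, Polynomial.eval_X]
    calc _ = ∑ m ∈ range (d + 1), (N i : ℚ) ^ m * φ (Pm m) := Finset.sum_congr rfl fun m _ => mul_comm _ _
      _ = _ := this
      _ = _ := Finset.sum_congr rfl fun r _ => by
        rw [Nat.cast_choose_eq_descPochhammer_div]; simp only [Function.comp_apply]; ring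
  have := congrArg (fun p => Polynomial.coeff p m) key
  simp only [Polynomial.finsetSum_coeff, Polynomial.coeff_C_mul, Polynomial.coeff_X_pow, mul_ite, mul_one, mul_zero,
    Finset.sum_ite_eq, mem_range] at this
  rw [if_pos (by omega)] at this
  rw [map_sub, sub_eq_zero, this, map_sum]
  refine Finset.sum_congr rfl fun r _ => ?_
  rw [map_smul, smul_eq_mul]
  ring

theorem eq_of_triangular {W : Type u} [AddCommGroup W] [Module ℚ W] (Z Z' : ℕ → W)
    (h : ∀ m, 1 ≤ m → m ≤ d → ∑ r ∈ range (d + 1), ((descPochhammer ℚ r).coeff m / r.factorial) • Z r =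
      ∑ r ∈ range (d + 1), ((descPochhammer ℚ r).coeff m / r.factorial) • Z' r) :
    ∀ k, 1 ≤ k → k ≤ d → Z k = Z' k := by
  intro k
  induction hk : d - k using Nat.strong_induction_on generalizing k with
  | _ j ih =>
    intro h1 hkd
    have hh := h k h1 hkd
    rw [← sub_eq_zero, ← Finset.sum_sub_distrib, Finset.sum_eq_single k] at hh
    · have hc : (descPochhammer ℚ k).coeff k = 1 := by
        have := (monic_descPochhammer ℚ k).coeff_natDegree
        rwa [descPochhammer_natDegree] at this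
      rw [hc, ← smul_sub, smul_eq_zero] at hh
      exact sub_eq_zero.1 (hh.resolve_left (by positivity))
    · intro r hr hrk
      rw [mem_range] at hr
      rcases lt_or_gt_of_ne hrk with hlt | hgt
      · rw [Polynomial.coeff_eq_zero_of_natDegree_lt (by rw [descPochhammer_natDegree]; exact hlt)]
        simp
      · rw [ih (d - r) (by omega) r rfl (by omega) (by omega), sub_self]
    · intro hn
      simp at hn
      omega

end Trunc

open MvPolynomial

variable {V : Type u} [CommRing V] [Algebra ℚ V] (r d : ℕ) (a : ℕ → V)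

/-- Symmetric polynomials. -/
abbrev Sym : Type := symmetricSubalgebra (Fin r) ℚ

/-- The homomorphism sending elementary symmetric polynomials to `a`. -/
def Φ : Sym r →ₐ[ℚ] V :=
  (MvPolynomial.aeval fun i : Fin r => a (i + 1)).comp (esymmAlgEquiv (Fin r) ℚ (Fintype.card_fin r)).symm.toAlgHom

/-- The elementary symmetric polynomials. -/
def es (i : ℕ) : Sym r := ⟨esymm (Fin r) ℚ i, esymm_isSymmetric _ _ _⟩

theorem Φ_es (ha0 : a 0 = 1) (ha : ∀ i, r < i → a i = 0) (i : ℕ) : Φ r a (es r i) = a i := by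
  rcases i with - | i
  · have : es r 0 = 1 := Subtype.ext (by show esymm (Fin r) ℚ 0 = 1; exact esymm_zero _ _)
    rw [this, map_one, ha0]
  rcases lt_or_ge i r with hi | hi
  · show MvPolynomial.aeval _ ((esymmAlgEquiv (Fin r) ℚ (Fintype.card_fin r)).symm (es r (i + 1))) = _
    rw [es, esymmAlgEquiv_symm_apply ℚ (Fintype.card_fin r) ⟨i, hi⟩, aeval_X]
  · have : es r (i + 1) = 0 := Subtype.ext (by
      show esymm (Fin r) ℚ (i + 1) = 0
      rw [esymm, Finset.powersetCard_eq_empty.2 (by simp; omega), Finset.sum_empty])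
    rw [this, map_zero, ha _ (by omega)]

theorem esymm_homogeneous (i : ℕ) : (esymm (Fin r) ℚ i).IsHomogeneous i := by
  refine IsHomogeneous.sum _ _ _ fun t ht => ?_
  have h := IsHomogeneous.prod t (fun j => (X j : MvPolynomial (Fin r) ℚ)) (fun _ => 1)
    fun j _ => isHomogeneous_X ℚ j
  simpa [(Finset.mem_powersetCard.1 ht).2] using h

/-- The weight of an exponent. -/
def wt (m : Fin r →₀ ℕ) : ℕ := ∑ i, m i * ((i : ℕ) + 1)

theorem esymmAlgHom_monomial_homogeneous (m : Fin r →₀ ℕ) (c : ℚ) :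
    ((esymmAlgHom (Fin r) ℚ r (monomial m c)).1).IsHomogeneous (wt r m) := by
  rw [esymmAlgHom_apply, MvPolynomial.aeval_monomial, Finsupp.prod_fintype _ _ (fun i => pow_zero _)]
  have h := IsHomogeneous.prod Finset.univ (fun i : Fin r => esymm (Fin r) ℚ ((i : ℕ) + 1) ^ m i)
    (fun i => m i * ((i : ℕ) + 1)) fun i _ => by
      have := (esymm_homogeneous r ((i : ℕ) + 1)).pow (m i)
      rwa [mul_comm] at this
  exact h.C_mul c

variable (hkill : ∀ m : Fin r →₀ ℕ, d < wt r m → ∏ i : Fin r, a ((i : ℕ) + 1) ^ m i = 0)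
include hkill

theorem Φ_eq_zero (F : Sym r) (h : ∀ n ≤ d, homogeneousComponent n (F : MvPolynomial (Fin r) ℚ) = 0) :
    Φ r a F = 0 := by
  set Q := (esymmAlgEquiv (Fin r) ℚ (Fintype.card_fin r)).symm F with hQ
  have hF : esymmAlgHom (Fin r) ℚ r Q = F :=
    (esymmAlgEquiv (Fin r) ℚ (Fintype.card_fin r)).apply_symm_apply F
  show MvPolynomial.aeval (fun i : Fin r => a (i + 1)) Q = 0
  rw [Q.as_sum, map_sum]
  refine Finset.sum_eq_zero fun m hm => ?_
  rw [MvPolynomial.aeval_monomial, Finsupp.prod_fintype _ _ (fun i => pow_zero _)]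
  by_cases hd : d < wt r m
  · rw [hkill m hd, mul_zero]
  exfalso
  set n := wt r m
  let Qn : MvPolynomial (Fin r) ℚ := ∑ x ∈ Q.support.filter (fun x => wt r x = n), monomial x (Q.coeff x)
  have hQn : esymmAlgHom (Fin r) ℚ r Qn = 0 := by
    refine Subtype.ext ?_
    have e : homogeneousComponent n ((esymmAlgHom (Fin r) ℚ r Q : Sym r) : MvPolynomial (Fin r) ℚ) =
        ((esymmAlgHom (Fin r) ℚ r Qn : Sym r) : MvPolynomial (Fin r) ℚ) := by
      conv_lhs => rw [Q.as_sum]
      simp only [Qn, map_sum, AddSubmonoidClass.coe_finsetSum, Finset.sum_filter]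
      refine Finset.sum_congr rfl fun x _ => ?_
      rw [homogeneousComponent_of_mem (esymmAlgHom_monomial_homogeneous r x _)]
      rcases eq_or_ne (wt r x) n with e | e
      · rw [if_pos e, if_pos e.symm]
      · rw [if_neg e, if_neg e.symm]
        simp
    rw [← e, hF, h n (by omega)]
    rfl
  have := esymmAlgHom_injective (σ := Fin r) ℚ (Fintype.card_fin r).ge (hQn.trans (map_zero _).symm)
  have hc := congrArg (MvPolynomial.coeff m) this
  rw [MvPolynomial.coeff_sum, MvPolynomial.coeff_zero] at hc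
  simp only [MvPolynomial.coeff_monomial, Finset.sum_ite_eq'] at hc
  rw [if_pos (Finset.mem_filter.2 ⟨hm, (rfl : wt r m = n)⟩)] at hc
  exact MvPolynomial.mem_support_iff.1 hm hc

omit hkill in
/-- The truncated polynomial ring. -/
abbrev Tr : Type := MvPolynomial (Fin r) ℚ ⧸ (idealOfVars (Fin r) ℚ) ^ (d + 1)

theorem Φ_congr (F G : Sym r)
    (h : Ideal.Quotient.mk ((idealOfVars (Fin r) ℚ) ^ (d + 1)) (F : MvPolynomial (Fin r) ℚ) =
      Ideal.Quotient.mk _ (G : MvPolynomial (Fin r) ℚ)) : Φ r a F = Φ r a G := by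
  rw [← sub_eq_zero, ← map_sub]
  refine Φ_eq_zero r d a hkill _ fun n hn => ?_
  rw [Ideal.Quotient.eq, mem_pow_idealOfVars_iff] at h
  ext x
  rw [coeff_homogeneousComponent, MvPolynomial.coeff_zero]
  split_ifs with hx
  · by_contra hc
    have := h x (MvPolynomial.mem_support_iff.2 hc)
    rw [hx] at this
    omega
  · rfl

omit hkill

theorem isSymmetric_aeval {n : ℕ} {p : MvPolynomial (Fin n) ℚ} (hp : p.IsSymmetric) (f : Polynomial ℚ) :
    (MvPolynomial.aeval (fun i : Fin n => Polynomial.aeval (MvPolynomial.X i : MvPolynomial (Fin n) ℚ) f) p).IsSymmetric := by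
  intro e
  rw [← AlgHom.comp_apply, MvPolynomial.comp_aeval]
  simp only [← Polynomial.aeval_algHom_apply, MvPolynomial.rename_X]
  conv_rhs => rw [← hp e, MvPolynomial.aeval_rename]
  rfl

/-- The variables `exp W - 1`. -/
def zpoly : Polynomial ℚ := KGr.expTrunc d - 1

/-- Elementary symmetric polynomials of `exp W - 1`. -/
def zes (i : ℕ) : Sym r := ⟨_, isSymmetric_aeval (esymm_isSymmetric (Fin r) ℚ i) (zpoly d)⟩

/-- Power sums of `exp W - 1`. -/
def zps (k : ℕ) : Sym r :=
  ⟨∑ i : Fin r, Polynomial.aeval (X i : MvPolynomial (Fin r) ℚ) (zpoly d ^ k), KGr.isSymmetric_sum_aeval r _⟩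

/-- Power sums. -/
def ps (m : ℕ) : Sym r :=
  ⟨∑ i : Fin r, Polynomial.aeval (X i : MvPolynomial (Fin r) ℚ) (Polynomial.X ^ m), KGr.isSymmetric_sum_aeval r _⟩

theorem newton_sym {c q : ℕ → Sym r} (h : Newton (fun i => (c i : MvPolynomial (Fin r) ℚ)) (fun k => (q k).1)) :
    Newton c q := ⟨Subtype.ext h.1, fun n => Subtype.ext (by
      push_cast
      exact h.2 n)⟩

theorem Φ_ps (ha0 : a 0 = 1) (ha : ∀ i, r < i → a i = 0) (m : ℕ) (hm : 1 ≤ m) : Φ r a (ps r m) = gh a m := by
  have h : Newton (es r) (ps r) := by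
    refine newton_sym r ?_
    have := newton_esymm ((Finset.univ : Finset (Fin r)).val.map (X : Fin r → MvPolynomial (Fin r) ℚ))
    refine this.congr (fun i => ?_) fun k => ?_
    · rw [← MvPolynomial.esymm_eq_multiset_esymm]; rfl
    · simp [ps, Multiset.map_map, Function.comp_def, Finset.sum_eq_multiset_sum]
  exact ((h.map (Φ r a).toRingHom).congr (c' := a) (q' := fun k => Φ r a (ps r k)) (fun i => Φ_es r a ha0 ha i) fun _ => rfl).eq_gh m hm

theorem newton_zes : Newton (zes r d) (zps r d) := by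
  refine newton_sym r ?_
  have := (newton_esymm ((Finset.univ : Finset (Fin r)).val.map (X : Fin r → MvPolynomial (Fin r) ℚ))).map
    (MvPolynomial.aeval (fun i : Fin r => Polynomial.aeval (X i : MvPolynomial (Fin r) ℚ) (zpoly d))).toRingHom
  refine this.congr (fun i => ?_) fun k => ?_
  · rw [← MvPolynomial.esymm_eq_multiset_esymm]; rfl
  · simp only [zps, Multiset.map_map, Function.comp_def, Finset.sum_eq_multiset_sum, map_multiset_sum,
      AlgHom.toRingHom_eq_coe, RingHom.coe_coe, map_pow, aeval_X]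

section InTr

/-- The class of a variable. -/
abbrev w (i : Fin r) : Tr r d := Ideal.Quotient.mk _ (X i)

theorem mk_pow_eq_zero {p : MvPolynomial (Fin r) ℚ} (hp : p ∈ idealOfVars (Fin r) ℚ) :
    (Ideal.Quotient.mk ((idealOfVars (Fin r) ℚ) ^ (d + 1)) p) ^ (d + 1) = 0 := by
  rw [← map_pow, Ideal.Quotient.eq_zero_iff_mem]
  exact Ideal.pow_mem_pow hp _

theorem w_pow (i : Fin r) : w r d i ^ (d + 1) = 0 :=
  mk_pow_eq_zero r d (Ideal.subset_span ⟨i, rfl⟩)

theorem mk_aeval (f : Polynomial ℚ) (p : MvPolynomial (Fin r) ℚ) :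
    Ideal.Quotient.mk ((idealOfVars (Fin r) ℚ) ^ (d + 1)) (Polynomial.aeval p f) =
      Polynomial.aeval (Ideal.Quotient.mk ((idealOfVars (Fin r) ℚ) ^ (d + 1)) p) f :=
  (Polynomial.aeval_algHom_apply (Ideal.Quotient.mkₐ ℚ ((idealOfVars (Fin r) ℚ) ^ (d + 1))) p f).symm

theorem exp_pow {B : Type u} [CommRing B] [Algebra ℚ B] {x : B} (hx : IsNilpotent x) (n : ℕ) :
    IsNilpotent.exp x ^ n = IsNilpotent.exp ((n : B) * x) := by
  induction n with
  | zero => simp
  | succ n ih =>
    rw [pow_succ, ih, Nat.cast_succ, add_mul, one_mul,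
      IsNilpotent.exp_add_of_commute (Commute.all _ _) ((Commute.all _ _).isNilpotent_mul_left hx) hx]

theorem log_identity (i : Fin r) {m : ℕ} (hm : m ≤ d) :
    (1 / (m.factorial : ℚ)) • w r d i ^ m = ∑ k ∈ range (d + 1),
      ((descPochhammer ℚ k).coeff m / k.factorial) • Polynomial.aeval (w r d i) (zpoly d) ^ k := by
  refine coeff_extract id Function.injective_id (fun m => (1 / (m.factorial : ℚ)) • w r d i ^ m)
    (fun k => Polynomial.aeval (w r d i) (zpoly d) ^ k) (fun n => ?_) hm
  have hnil : IsNilpotent (w r d i) := ⟨d + 1, w_pow r d i⟩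
  have h1 : ∑ m ∈ range (d + 1), ((id n : ℕ) : ℚ) ^ m • ((1 / (m.factorial : ℚ)) • w r d i ^ m) =
      IsNilpotent.exp ((n : Tr r d) * w r d i) := by
    rw [IsNilpotent.exp_eq_sum (k := d + 1) (by rw [mul_pow, w_pow, mul_zero])]
    refine Finset.sum_congr rfl fun m _ => ?_
    rw [id_eq, one_div, smul_comm, mul_pow, ← Nat.cast_pow, ← Nat.cast_pow, Nat.cast_smul_eq_nsmul ℚ, nsmul_eq_mul]
  rw [h1, ← exp_pow hnil, ← aeval_expTrunc (w_pow r d i),
    show Polynomial.aeval (w r d i) (KGr.expTrunc d) = Polynomial.aeval (w r d i) (zpoly d) + 1 by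
      simp [zpoly], add_pow]
  have hz : ∀ k, d < k → Polynomial.aeval (w r d i) (zpoly d) ^ k = 0 := fun k hk => by
    have hX : Polynomial.X ∣ zpoly d := by
      rw [Polynomial.X_dvd_iff]
      simp [zpoly, KGr.expTrunc, Polynomial.coeff_C_mul_X_pow]
    obtain ⟨c, hc⟩ := hX
    rw [hc, map_mul, Polynomial.aeval_X, mul_pow, pow_eq_zero_of_le (by omega : d + 1 ≤ k) (w_pow r d i), zero_mul]
  calc _ = ∑ k ∈ range (n + d + 2), ((n.choose k : ℕ) : ℚ) • Polynomial.aeval (w r d i) (zpoly d) ^ k := by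
        refine (Finset.sum_congr rfl fun k _ => ?_).trans
          (Finset.sum_subset (range_mono (by omega)) fun k _ hk => ?_)
        · rw [one_pow, mul_one, Nat.cast_smul_eq_nsmul, nsmul_eq_mul, mul_comm]
        · rw [Nat.choose_eq_zero_of_lt (by simp at hk; omega), Nat.cast_zero, zero_smul]
    _ = _ := (Finset.sum_subset (range_mono (by omega)) fun k _ hk => by
          rw [hz k (by simp at hk; omega), smul_zero]).symm

include hkill in
theorem Φ_ps_eq {m : ℕ} (hm : m ≤ d) :
    (1 / (m.factorial : ℚ)) • Φ r a (ps r m) =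
      ∑ k ∈ range (d + 1), ((descPochhammer ℚ k).coeff m / k.factorial) • Φ r a (zps r d k) := by
  simp only [← map_smul, ← map_sum]
  refine Φ_congr r d a hkill _ _ ?_
  show Ideal.Quotient.mkₐ ℚ _ (Subalgebra.val _ ((1 / (m.factorial : ℚ)) • ps r m)) =
    Ideal.Quotient.mkₐ ℚ _ (Subalgebra.val _ (∑ k ∈ range (d + 1), _))
  simp only [map_smul, map_sum, ps, zps, Subalgebra.coe_val]
  rw [Finset.smul_sum]
  simp only [Finset.smul_sum, Ideal.Quotient.mkₐ_eq_mk, mk_aeval, map_pow, Polynomial.aeval_X]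
  rw [Finset.sum_comm]
  exact Finset.sum_congr rfl fun i _ => log_identity r d i hm

/-- The product of the Todd series. -/
def tdP : Sym r :=
  ⟨∏ i : Fin r, Polynomial.aeval (X i : MvPolynomial (Fin r) ℚ) (KGr.toddTrunc d), KGr.isSymmetric_prod_aeval r _⟩

/-- The product of the exponentials. -/
def expP : Sym r :=
  ⟨∏ i : Fin r, Polynomial.aeval (X i : MvPolynomial (Fin r) ℚ) (KGr.expTrunc d), KGr.isSymmetric_prod_aeval r _⟩

include hkill in
theorem top_identity : Φ r a (tdP r d) * Φ r a (zes r d r) = Φ r a (es r r) * Φ r a (expP r d) := by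
  rw [← map_mul, ← map_mul]
  refine Φ_congr r d a hkill _ _ ?_
  have htop : esymm (Fin r) ℚ r = ∏ i : Fin r, X i := by
    rw [esymm]
    have : (Finset.univ : Finset (Fin r)).powersetCard r = {Finset.univ} := by
      simpa using Finset.powersetCard_self (Finset.univ : Finset (Fin r))
    rw [this, Finset.sum_singleton]
  have hz : (zes r d r : MvPolynomial (Fin r) ℚ) = ∏ i : Fin r, Polynomial.aeval (X i) (zpoly d) := by
    show MvPolynomial.aeval _ (esymm (Fin r) ℚ r) = _
    simp [htop, map_prod]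
  simp only [MulMemClass.coe_mul, map_mul, hz]
  show Ideal.Quotient.mk _ (tdP r d : MvPolynomial (Fin r) ℚ) * _ =
    Ideal.Quotient.mk _ (esymm (Fin r) ℚ r) * Ideal.Quotient.mk _ (expP r d : MvPolynomial (Fin r) ℚ)
  simp only [tdP, expP, htop, map_prod, mk_aeval]
  rw [← Finset.prod_mul_distrib, ← Finset.prod_mul_distrib]
  refine Finset.prod_congr rfl fun i _ => ?_
  rw [zpoly, map_sub, map_one, todd_mul (w_pow r d i)]

theorem sum_zes : ∑ i ∈ range (r + 1), (zes r d i : MvPolynomial (Fin r) ℚ) = (expP r d : MvPolynomial (Fin r) ℚ) := by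
  have key : ∀ s : Multiset (MvPolynomial (Fin r) ℚ),
      ∑ i ∈ range (Multiset.card s + 1), s.esymm i = (s.map fun u => 1 + u).prod := fun s => by
    induction s using Multiset.induction with
    | empty => simp [Multiset.esymm]
    | cons u s ih =>
      rw [Multiset.card_cons, Finset.sum_range_succ', Multiset.map_cons, Multiset.prod_cons, ← ih]
      simp only [Groth.L22.Lambda.esymm_cons_succ, Finset.sum_add_distrib, ← Finset.mul_sum]
      have h0 : ∀ t : Multiset (MvPolynomial (Fin r) ℚ), t.esymm 0 = 1 := fun t => by simp [Multiset.esymm]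
      have hlast : s.esymm (Multiset.card s + 1) = 0 := by simp [Multiset.esymm, Multiset.powersetCard_eq_empty]
      have e := Finset.sum_range_succ' (fun i => s.esymm i) (Multiset.card s + 1)
      rw [Finset.sum_range_succ, hlast, add_zero, h0] at e
      rw [h0, e]
      ring
  have h := key ((Finset.univ : Finset (Fin r)).val.map fun i => Polynomial.aeval (X i) (zpoly d))
  simp only [Multiset.card_map, Finset.card_val, Finset.card_univ, Fintype.card_fin, Multiset.map_map,
    Function.comp_def] at h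
  refine (Finset.sum_congr rfl fun i _ => ?_).trans (h.trans ?_)
  · show MvPolynomial.aeval _ _ = _
    rw [MvPolynomial.aeval_esymm_eq_multiset_esymm]
  · show _ = ∏ i : Fin r, _
    rw [Finset.prod_eq_multiset_prod]
    simp [zpoly]

end InTr

/-- Forget the variables beyond `r`. -/
theorem todd_restrict (k : ℕ) (hk : r + k = d) (b : Fin d → V)
    (hb : ∀ i : Fin d, b i = if (i : ℕ) < r then a ((i : ℕ) + 1) else 0) :
    MvPolynomial.aeval b (KGr.toddPoly d) = Φ r a (tdP r d) := by
  subst hk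
  let π : MvPolynomial (Fin (r + k)) ℚ →ₐ[ℚ] MvPolynomial (Fin r) ℚ :=
    MvPolynomial.aeval (Fin.append (fun i => X i) fun _ => 0)
  have hb' : MvPolynomial.aeval b = (MvPolynomial.aeval fun i : Fin r => a (i + 1)).comp π := by
    refine MvPolynomial.algHom_ext fun i => ?_
    refine Fin.addCases (fun j => ?_) (fun j => ?_) i
    · simp [π, hb]
    · simp [π, hb]
  rw [hb', AlgHom.comp_apply]
  show _ = MvPolynomial.aeval _ ((esymmAlgEquiv (Fin r) ℚ (Fintype.card_fin r)).symm _)
  congr 1
  rw [eq_comm, AlgEquiv.symm_apply_eq]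
  refine Subtype.ext ?_
  show _ = (esymmAlgHom (Fin r) ℚ r (π (KGr.toddPoly (r + k)))).1
  have hcomm : (Subalgebra.val _).comp ((esymmAlgHom (Fin r) ℚ r).comp π) =
      π.comp ((Subalgebra.val _).comp (esymmAlgHom (Fin (r + k)) ℚ (r + k))) := by
    refine MvPolynomial.algHom_ext fun i => ?_
    simp only [AlgHom.comp_apply, Subalgebra.coe_val, esymmAlgHom_apply, aeval_X, π]
    rw [MvPolynomial.aeval_esymm_eq_multiset_esymm, ← Groth.L22.Lambda.coeff_prod_one_add, Multiset.map_map,
      ← Finset.prod_eq_multiset_prod, Fin.prod_univ_add]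
    simp only [Function.comp_apply, Fin.append_left, Fin.append_right, map_zero, zero_mul, add_zero,
      Finset.prod_const_one, mul_one]
    refine Fin.addCases (fun j => ?_) (fun j => ?_) i
    · simp only [Fin.append_left, aeval_X, Fin.val_castAdd]
      rw [MvPolynomial.esymm_eq_multiset_esymm, ← Groth.L22.Lambda.coeff_prod_one_add, Multiset.map_map,
        ← Finset.prod_eq_multiset_prod]
      rfl
    · simp only [Fin.append_right, map_zero, Fin.val_natAdd]
      rw [Finset.prod_eq_multiset_prod,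
        show (fun x : Fin r => (1 : PowerSeries (MvPolynomial (Fin r) ℚ)) + PowerSeries.C (X x) * PowerSeries.X) =
          (fun u => 1 + PowerSeries.C u * PowerSeries.X) ∘ X from rfl, ← Multiset.map_map,
        Groth.L22.Lambda.coeff_prod_one_add, Multiset.esymm, Multiset.powersetCard_eq_empty _ (by simp)]
      simp
  have h := AlgHom.congr_fun hcomm (KGr.toddPoly (r + k))
  simp only [AlgHom.comp_apply, Subalgebra.coe_val] at h
  rw [h]
  have e : esymmAlgHom (Fin (r + k)) ℚ (r + k) (KGr.toddPoly (r + k)) =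
      ⟨_, KGr.isSymmetric_prod_aeval (r + k) (KGr.toddTrunc (r + k))⟩ :=
    (esymmAlgEquiv (Fin (r + k)) ℚ (Fintype.card_fin _)).apply_symm_apply _
  rw [e]
  show _ = π (∏ i : Fin (r + k), _)
  rw [map_prod, Fin.prod_univ_add]
  simp only [← Polynomial.aeval_algHom_apply, π, aeval_X, Fin.append_left, Fin.append_right]
  rw [Finset.prod_eq_one (s := (Finset.univ : Finset (Fin k))), mul_one]
  · rfl
  · intro i _
    rw [← Polynomial.coeff_zero_eq_aeval_zero']
    simp [KGr.toddTrunc, Polynomial.coeff_C_mul_X_pow]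

end Groth.L15.ToddTop
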