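import Groth.Agent.L15.ToddTop.Core
import Groth.Agent.L15.ChernChar
import Groth.Agent.L08.Lambda.Inv

/-!
Todd class times the alternating exterior powers of the dual is the top Chern class.
-/

set_option autoImplicit false
universe u

noncomputable section

namespace Groth.L15.ToddTop

open Finset LambdaRing Groth.L08.Lambda
open scoped TensorProduct

theorem sum_esymm_eq_prod {R : Type u} [CommRing R] (s : Multiset R) :
    ∑ i ∈ range (Multiset.card s + 1), s.esymm i = (s.map fun u => 1 + u).prod := by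
  induction s using Multiset.induction with
  | empty => simp [Multiset.esymm]
  | cons u s ih =>
    rw [Multiset.card_cons, Finset.sum_range_succ', Multiset.map_cons, Multiset.prod_cons, ← ih]
    simp only [Groth.L22.Lambda.esymm_cons_succ, Finset.sum_add_distrib, ← Finset.mul_sum]
    have h0 : ∀ t : Multiset R, t.esymm 0 = 1 := fun t => by simp [Multiset.esymm]
    have hlast : s.esymm (Multiset.card s + 1) = 0 := by simp [Multiset.esymm, Multiset.powersetCard_eq_empty]
    have e := Finset.sum_range_succ' (fun i => s.esymm i) (Multiset.card s + 1)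
    rw [Finset.sum_range_succ, hlast, add_zero, h0] at e
    rw [h0, e]
    ring

variable {K : Type u} [CommRing K] [LambdaOps K] {P : PosStructure K} {inv : K → K}

theorem gamma_facts (hS : HasInvSplitting P inv) {e : K} (he : e ∈ P.pos) :
    (∀ i, (P.aug e).toNat < i → gamma i (e - (P.aug e : K)) = 0) ∧
      LambdaOps.lam (P.aug e).toNat e = ∑ i ∈ range ((P.aug e).toNat + 1), gamma i (e - (P.aug e : K)) := by
  obtain ⟨L, inv', f, hf, -, -, s, hs, hsum⟩ := hS e he
  set r := (P.aug e).toNat with hr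
  have hcast : (P.aug e : K) = (r : K) := by
    rw [← Int.cast_natCast, hr, Int.toNat_of_nonneg (P.aug_pos e he).le]
  have hcard : Multiset.card s = r := by
    have h := Groth.L22.Lambda.aug_sum_lines L.posStr hs
    rw [hsum, hf.aug_comp] at h
    rw [hr, h, Int.toNat_natCast]
  have hfg : ∀ i x, f (gamma i x) = gamma i (f x) := fun i x => by
    unfold gamma
    rw [apply_ite f, map_one, map_sum]
    congr 1
    refine Finset.sum_congr rfl fun j _ => ?_
    rw [map_mul, map_natCast, apply_ite f, map_zero, hf.isLambdaHom]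
  have h1 : ∀ k : ℕ, 2 ≤ k → LambdaOps.lam k (1 : L.carrier) = 0 :=
    fun k hk => Groth.L22.Lambda.lam_eq_zero_of_isLine L.posStr (Groth.L22.Lambda.isLine_one L.posStr) hk
  have hy : f (e - (P.aug e : K)) = (s.map fun u => u - 1).sum := by
    rw [hcast, map_sub, map_natCast, ← hsum, Multiset.sum_map_sub, Multiset.map_id', Multiset.map_const', Multiset.sum_replicate,
      hcard, nsmul_one]
  have hg : ∀ i, f (gamma i (e - (P.aug e : K))) = (s.map fun u => u - 1).esymm i := fun i => by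
    rw [hfg, hy, ← coeff_gammaSeries, gammaSeries_multiset_sum, Multiset.map_map,
      ← Groth.L22.Lambda.coeff_prod_one_add, Multiset.map_map]
    congr 2
    exact Multiset.map_congr rfl fun u hu =>
      gammaSeries_sub_one h1 fun j hj => Groth.L22.Lambda.lam_eq_zero_of_isLine L.posStr (hs u hu) hj
  refine ⟨fun i hi => hf.injective ?_, hf.injective ?_⟩
  · rw [hg, map_zero]
    simp [Multiset.esymm, Multiset.powersetCard_eq_empty _ (show Multiset.card (s.map fun u => u - 1) < i by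
      rw [Multiset.card_map, hcard]; exact hi)]
  · rw [hf.isLambdaHom, ← hsum, Groth.L22.Lambda.lam_sum_lines L.posStr hs, map_sum]
    simp only [hg]
    have := sum_esymm_eq_prod (s.map fun u => u - 1)
    rw [Multiset.card_map, hcard, Multiset.map_map] at this
    rw [this, ← hcard]
    simp [Multiset.esymm, Multiset.powersetCard_self]

variable (P) (hK : HasSplitting K P) {d : ℕ} (hd : gammaFiltration P (d + 1) = ⊥)
include hd

open Groth.L15.ChernChar

theorem Psi_proj_sum (y : ℚ ⊗[ℤ] K) (i : ℕ) :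
    ∑ m ∈ range (d + 1), (((2 : ℕ) ^ i : ℕ) : ℚ) ^ m • proj P hK d m y = ((Psi P hK).toLinearMap ^ i) y := by
  conv_rhs => rw [← sum_proj P hK hd y, map_sum]
  refine Finset.sum_congr rfl fun m _ => ?_
  have hv := proj_mem P hK hd m y
  rw [Eig, Module.End.mem_eigenspace_iff] at hv
  induction i with
  | zero => simp
  | succ i ih =>
    rw [pow_succ ((Psi P hK).toLinearMap), Module.End.mul_apply, hv, map_smul, ← ih, smul_smul]
    congr 1
    push_cast
    rw [pow_succ (2 : ℚ) i, mul_pow, mul_comm]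

theorem Psi_expand {y : K} (hy : P.aug y = 0) (i : ℕ) :
    ((Psi P hK).toLinearMap ^ i) ((1 : ℚ) ⊗ₜ[ℤ] y) =
      ∑ r ∈ range (d + 1), (((2 ^ i).choose r : ℕ) : ℚ) • ((1 : ℚ) ⊗ₜ[ℤ] gh (fun j => gamma j y) r) := by
  rw [Psi_pow P hK, adams_eq_adamsOp hK Nat.one_le_two_pow, adamsOp_eq_sum_gh_gamma, TensorProduct.tmul_sum]
  have hterm : ∀ r, (1 : ℚ) ⊗ₜ[ℤ] (((2 ^ i).choose r : K) * gh (fun j => gamma j y) r) =
      ((2 ^ i).choose r : ℚ) • ((1 : ℚ) ⊗ₜ[ℤ] gh (fun j => gamma j y) r) := fun r => by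
    rw [← nsmul_eq_mul, TensorProduct.tmul_smul, ← Nat.cast_smul_eq_nsmul ℚ]
  rw [Finset.sum_congr rfl fun r _ => hterm r]
  have h2i := Nat.one_le_two_pow (n := i)
  refine (Finset.sum_subset (s₂ := range (2 ^ i + d + 1)) (range_mono (by omega)) fun r _ hr => ?_).trans
    (Finset.sum_subset (range_mono (by omega)) fun r _ hr => ?_).symm
  · rw [Nat.choose_eq_zero_of_lt (by simp at hr; omega), Nat.cast_zero, zero_smul]
  · have := gammaFiltration_antitone P (show d + 1 ≤ r by simp at hr; omega)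
      (gh_proj P hK hd _ (gamma_zero y) (gamma_mem P hy) r).1
    rw [hd, AddSubgroup.mem_bot] at this
    rw [this, TensorProduct.tmul_zero, smul_zero]

variable {e : K} (he : e ∈ P.pos) (hS : HasInvSplitting P inv)
include he hS

/-- The graded pieces of the classes `γ^i(e - ε e)`. -/
abbrev aClass (d : ℕ) (e : K) (i : ℕ) : ℚ ⊗[ℤ] K := proj P hK d i ((1 : ℚ) ⊗ₜ[ℤ] gamma i (e - (P.aug e : K)))

theorem aClass_kill (m : Fin (P.aug e).toNat →₀ ℕ) (hm : d < wt (P.aug e).toNat m) :
    ∏ i : Fin (P.aug e).toNat, aClass P hK d e ((i : ℕ) + 1) ^ m i = 0 := by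
  refine mem_eig_zero_of_lt P hK hd hm ?_
  have hpow : ∀ (w : ℕ) (v : ℚ ⊗[ℤ] K), v ∈ Eig P hK w → ∀ j, v ^ j ∈ Eig P hK (j * w) := fun w v hv j => by
    induction j with
    | zero => simpa using one_mem_eig P hK hd
    | succ j ih => rw [pow_succ, Nat.succ_mul]; exact eig_mul P hK hd ih hv
  unfold wt
  generalize (Finset.univ : Finset (Fin (P.aug e).toNat)) = s
  induction s using Finset.induction with
  | empty => simpa using one_mem_eig P hK hd
  | insert i s hi ih =>
    rw [Finset.prod_insert hi, Finset.sum_insert hi]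
    exact eig_mul P hK hd (hpow _ _ (proj_mem P hK hd _ _) _) ih

theorem tdK_mul_eq :
    D P hK hd (KGr.tdK P d e) *
        ((1 : ℚ) ⊗ₜ[ℤ] ∑ i ∈ range ((P.aug e).toNat + 1), (-1 : K) ^ i * LambdaOps.lam i (inv e)) =
      proj P hK d (P.aug e).toNat ((1 : ℚ) ⊗ₜ[ℤ] gamma (P.aug e).toNat (e - (P.aug e : K))) := by
  obtain ⟨hg0, hL⟩ := gamma_facts hS he
  set r := (P.aug e).toNat with hr
  set y := e - (P.aug e : K) with hy
  have hy0 : P.aug y = 0 := by rw [hy, map_sub, map_intCast]; simp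
  have hcast : (P.aug e : K) = (r : K) := by
    rw [← Int.cast_natCast, hr, Int.toNat_of_nonneg (P.aug_pos e he).le]
  have hSL := gamma_aug_sub hS he
  rw [← hr, ← hcast, ← hy] at hSL
  have hLu : IsUnit ((1 : ℚ) ⊗ₜ[ℤ] LambdaOps.lam r e) :=
    (P.isUnit_lam e he).map (Algebra.TensorProduct.includeRight : K →ₐ[ℤ] ℚ ⊗[ℤ] K)
  refine hLu.mul_left_inj.1 ?_
  rw [mul_assoc, Algebra.TensorProduct.tmul_mul_tmul, mul_one, ← hSL]
  rcases lt_or_ge d r with hdr | hrd
  · have h0 : gamma r y = 0 := by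
      have := gammaFiltration_antitone P (show d + 1 ≤ r by omega) (gamma_mem P hy0 r)
      rwa [hd, AddSubgroup.mem_bot] at this
    rw [h0, TensorProduct.tmul_zero, mul_zero, map_zero, zero_mul]
  set a := aClass P hK d e with ha
  have ha0 : a 0 = 1 := by
    show proj P hK d 0 ((1 : ℚ) ⊗ₜ[ℤ] gamma 0 y) = 1
    rw [Groth.L08.Lambda.gamma_zero, ← Algebra.TensorProduct.one_def, proj_eig P hK hd (one_mem_eig P hK hd), if_pos rfl]
  have har : ∀ i, r < i → a i = 0 := fun i hi => by
    show proj P hK d i ((1 : ℚ) ⊗ₜ[ℤ] gamma i y) = 0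
    rw [hg0 i hi, TensorProduct.tmul_zero, map_zero]
  have hkill := aClass_kill P hK hd he hS
  rw [← hr] at hkill
  have hps : ∀ k, 1 ≤ k → k ≤ d → Φ r a (zps r d k) = (1 : ℚ) ⊗ₜ[ℤ] gh (fun j => gamma j y) k := by
    refine eq_of_triangular (fun k => Φ r a (zps r d k)) (fun k => (1 : ℚ) ⊗ₜ[ℤ] gh (fun j => gamma j y) k) fun m hm hmd => ?_
    rw [← Φ_ps_eq r d a hkill hmd, Φ_ps r a ha0 har m hm,
      ← coeff_extract (fun i => 2 ^ i) (Nat.pow_right_injective le_rfl) (fun m => proj P hK d m ((1 : ℚ) ⊗ₜ[ℤ] y))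
        (fun k => (1 : ℚ) ⊗ₜ[ℤ] gh (fun j => gamma j y) k)
        (fun i => (Psi_proj_sum P hK hd _ i).trans (Psi_expand P hK hd hy0 i)) hmd,
      proj_eq_gh P hK hd hy0 m hmd,
      ← (gh_proj P hK hd _ (Groth.L08.Lambda.gamma_zero y) (gamma_mem P hy0) m).2]
  have hes : ∀ i ≤ d, Φ r a (zes r d i) = (1 : ℚ) ⊗ₜ[ℤ] gamma i y := by
    have h2 := (newton_gh (c := fun j => gamma j y) (Groth.L08.Lambda.gamma_zero y)).map
      (Algebra.TensorProduct.includeRight : K →ₐ[ℤ] ℚ ⊗[ℤ] K).toRingHom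
    exact fun i hi => ((newton_zes r d).map (Φ r a).toRingHom).c_eq h2 rat_cancel d (fun k hk hkd => hps k hk hkd) i hi
  have hexp : Φ r a (expP r d) = (1 : ℚ) ⊗ₜ[ℤ] LambdaOps.lam r e := by
    have : expP r d = ∑ i ∈ range (r + 1), zes r d i := Subtype.ext (by
      rw [AddSubmonoidClass.coe_finsetSum, sum_zes r d])
    rw [this, map_sum, hL, TensorProduct.tmul_sum]
    exact Finset.sum_congr rfl fun i hi => hes i (by simp at hi; omega)
  have htd : D P hK hd (KGr.tdK P d e) = Φ r a (tdP r d) := by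
    rw [KGr.tdK, ← AlgHom.comp_apply,
      show (D P hK hd).comp (MvPolynomial.aeval fun i : Fin d => KGr.chern P ((i : ℕ) + 1) e) =
        MvPolynomial.aeval (fun i : Fin d => D P hK hd (KGr.chern P ((i : ℕ) + 1) e)) from
        MvPolynomial.algHom_ext fun i => by simp]
    refine todd_restrict r d a (d - r) (by omega) _ fun i => ?_
    have hx : gamma ((i : ℕ) + 1) y ∈ gammaFiltration P (-(-(((i : ℕ) + 1 : ℕ) : ℤ))).toNat := by
      rw [show (-(-(((i : ℕ) + 1 : ℕ) : ℤ))).toNat = (i : ℕ) + 1 by omega]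
      exact gamma_mem P hy0 _
    show D P hK hd (KGr.chern P ((i : ℕ) + 1) e) = _
    rw [KGr.chern, ← hy, grK_eq P hx, D_tmul, one_smul, DZ_cls P hK hd, if_pos (by omega),
      show (-(-(((i : ℕ) + 1 : ℕ) : ℤ))).toNat = (i : ℕ) + 1 by omega]
    split_ifs with hi
    · rfl
    · exact har _ (by omega)
  conv_lhs => rw [htd, ← hes r hrd, top_identity r d a hkill, Φ_es r a ha0 har, hexp]

include hK in
theorem result :
    KGr.tdK P d e *
        KGr.chK P d (∑ i ∈ range ((P.aug e).toNat + 1), (-1 : K) ^ i * LambdaOps.lam i (inv e)) =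
      KGr.chern P (P.aug e).toNat e := by
  refine (D_bijective P hK hd).1 ?_
  rw [map_mul, D_chK, tdK_mul_eq P hK hd he hS]
  have hy0 : P.aug (e - (P.aug e : K)) = 0 := by rw [map_sub, map_intCast]; simp
  have hx : gamma (P.aug e).toNat (e - (P.aug e : K)) ∈
      gammaFiltration P (-(-((P.aug e).toNat : ℤ))).toNat := by
    rw [show (-(-((P.aug e).toNat : ℤ))).toNat = (P.aug e).toNat by omega]
    exact gamma_mem P hy0 _
  rw [KGr.chern, grK_eq P hx, D_tmul, one_smul, DZ_cls P hK hd, if_pos (by omega),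
    show (-(-((P.aug e).toNat : ℤ))).toNat = (P.aug e).toNat by omega]

end Groth.L15.ToddTop
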